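import Mathlib

/-!
# Wedderburn components of a group algebra

For a surjective algebra homomorphism `π : F[G] →ₐ Π i, M_{d i}(F)` (for instance the
Wedderburn–Artin isomorphism of a semisimple group algebra, or the projection modulo the radical)
we study the component matrix representations `compRep π i : G →* M_{d i}(F)`:
intertwiners between different components vanish, intertwiners of a component with itself are
scalar, and (Schur orthogonality) the averaged character sums.
-/

set_option autoImplicit false
set_option linter.unusedSectionVars false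

namespace Cfsg.Agent.Lib.Helper80.BC

open MonoidAlgebra

variable {F : Type*} [Field F] {G : Type*} [Group G] {m : ℕ} {d : Fin m → ℕ}
  (π : MonoidAlgebra F G →ₐ[F] (Π i : Fin m, Matrix (Fin (d i)) (Fin (d i)) F))

/-- the `i`-th component algebra homomorphism -/
noncomputable def compAlg (i : Fin m) : MonoidAlgebra F G →ₐ[F] Matrix (Fin (d i)) (Fin (d i)) F :=
  (Pi.evalAlgHom F (fun i : Fin m => Matrix (Fin (d i)) (Fin (d i)) F) i).comp π

/-- the `i`-th component matrix representation -/
noncomputable def compRep (i : Fin m) : G →* Matrix (Fin (d i)) (Fin (d i)) F :=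
  ((compAlg π i : MonoidAlgebra F G →* Matrix (Fin (d i)) (Fin (d i)) F)).comp (of F G)

theorem compAlg_apply (i : Fin m) (a : MonoidAlgebra F G) : compAlg π i a = π a i := rfl

theorem compRep_apply (i : Fin m) (g : G) : compRep π i g = compAlg π i (of F G g) := rfl

/-- surjectivity componentwise with prescribed other components zero -/
theorem exists_compAlg_eq (hπ : Function.Surjective π) (i : Fin m)
    (Y : Matrix (Fin (d i)) (Fin (d i)) F) :
    ∃ a : MonoidAlgebra F G, compAlg π i a = Y ∧ ∀ j, j ≠ i → compAlg π j a = 0 := by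
  classical
  obtain ⟨a, ha⟩ := hπ (Pi.single i Y)
  refine ⟨a, ?_, ?_⟩
  · rw [compAlg_apply, ha, Pi.single_eq_same]
  · intro j hj
    rw [compAlg_apply, ha, Pi.single_eq_of_ne hj]

/-- an intertwiner for the group is an intertwiner for the algebra -/
theorem compAlg_mul_eq_of_compRep {i j : Fin m} (T : Matrix (Fin (d i)) (Fin (d j)) F)
    (hT : ∀ g : G, compRep π i g * T = T * compRep π j g) (a : MonoidAlgebra F G) :
    compAlg π i a * T = T * compAlg π j a := by
  induction a using MonoidAlgebra.induction_on with
  | of g => exact hT g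
  | add x y hx hy => rw [map_add, map_add, Matrix.add_mul, Matrix.mul_add, hx, hy]
  | smul r x hx => rw [map_smul, map_smul, Matrix.smul_mul, Matrix.mul_smul, hx]

/-- intertwiners between different components vanish -/
theorem intertwiner_eq_zero (hπ : Function.Surjective π) {i j : Fin m} (hij : i ≠ j)
    (T : Matrix (Fin (d i)) (Fin (d j)) F)
    (hT : ∀ g : G, compRep π i g * T = T * compRep π j g) : T = 0 := by
  obtain ⟨a, ha1, ha2⟩ := exists_compAlg_eq π hπ i 1
  have h := compAlg_mul_eq_of_compRep π T hT a
  rw [ha1, ha2 j (Ne.symm hij), Matrix.one_mul, Matrix.mul_zero] at h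
  exact h

/-- self-intertwiners of a component are scalar -/
theorem intertwiner_eq_scalar (hπ : Function.Surjective π) (i : Fin m)
    (T : Matrix (Fin (d i)) (Fin (d i)) F)
    (hT : ∀ g : G, compRep π i g * T = T * compRep π i g) : ∃ c : F, T = c • 1 := by
  classical
  have hcomm : ∀ Y : Matrix (Fin (d i)) (Fin (d i)) F, Y * T = T * Y := by
    intro Y
    obtain ⟨a, ha1, _⟩ := exists_compAlg_eq π hπ i Y
    have h := compAlg_mul_eq_of_compRep π T hT a
    rw [ha1] at h
    exact h
  have hmem : T ∈ Set.range (Matrix.scalar (Fin (d i))) := by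
    apply Matrix.mem_range_scalar_of_commute_single
    intro a b _
    exact hcomm _
  obtain ⟨c, hc⟩ := hmem
  refine ⟨c, ?_⟩
  rw [← hc, Matrix.scalar_apply, Matrix.smul_one_eq_diagonal]

section Average

variable [Fintype G]

/-- the averaged intertwiner -/
noncomputable def avgMat (i j : Fin m) (X : Matrix (Fin (d i)) (Fin (d j)) F) :
    Matrix (Fin (d i)) (Fin (d j)) F :=
  ∑ g : G, compRep π i g * X * compRep π j g⁻¹

theorem avgMat_intertwines (i j : Fin m) (X : Matrix (Fin (d i)) (Fin (d j)) F) (h : G) :
    compRep π i h * avgMat π i j X = avgMat π i j X * compRep π j h := by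
  unfold avgMat
  rw [Matrix.mul_sum, Matrix.sum_mul]
  refine Fintype.sum_equiv (Equiv.mulLeft h) _ _ ?_
  intro g
  simp only [Equiv.coe_mulLeft]
  rw [map_mul, mul_inv_rev]
  simp only [Matrix.mul_assoc]
  congr 3
  rw [← map_mul, inv_mul_cancel_right]

theorem trace_avgMat (i : Fin m) (X : Matrix (Fin (d i)) (Fin (d i)) F) :
    (avgMat π i i X).trace = (Fintype.card G : F) * X.trace := by
  unfold avgMat
  rw [Matrix.trace_sum]
  have : ∀ g : G, (compRep π i g * X * compRep π i g⁻¹).trace = X.trace := by
    intro g
    rw [Matrix.trace_mul_comm, ← Matrix.mul_assoc, ← map_mul, inv_mul_cancel, map_one,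
      Matrix.one_mul]
  rw [Finset.sum_congr rfl (fun g _ => this g), Finset.sum_const, Finset.card_univ, nsmul_eq_mul]

/-- the matrix-coefficient form of the averaged intertwiner at a matrix unit -/
theorem avgMat_single_apply [DecidableEq (Fin m)] (i j : Fin m) (a : Fin (d i)) (b : Fin (d j)) :
    avgMat π i j (Matrix.single a b 1) a b
      = ∑ g : G, compRep π i g a a * compRep π j g⁻¹ b b := by
  unfold avgMat
  rw [Matrix.sum_apply]
  apply Finset.sum_congr rfl
  intro g _
  rw [Matrix.mul_apply]
  rw [Finset.sum_eq_single b]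
  · rw [Matrix.mul_single_apply_same, mul_one]
  · intro c _ hc
    rw [Matrix.mul_single_apply_of_ne _ _ _ _ _ hc, zero_mul]
  · intro h
    exact absurd (Finset.mem_univ b) h

/-- **Schur orthogonality**, different components -/
theorem sum_trace_mul_trace_inv_of_ne (hπ : Function.Surjective π) {i j : Fin m} (hij : i ≠ j) :
    ∑ g : G, (compRep π i g).trace * (compRep π j g⁻¹).trace = 0 := by
  classical
  have h0 : ∀ (a : Fin (d i)) (b : Fin (d j)),
      ∑ g : G, compRep π i g a a * compRep π j g⁻¹ b b = 0 := by
    intro a b
    rw [← avgMat_single_apply, intertwiner_eq_zero π hπ hij _ (avgMat_intertwines π i j _)]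
    rfl
  simp only [Matrix.trace, Matrix.diag_apply, Finset.sum_mul_sum]
  rw [Finset.sum_comm]
  apply Finset.sum_eq_zero
  intro a _
  rw [Finset.sum_comm]
  apply Finset.sum_eq_zero
  intro b _
  exact h0 a b

/-- **Schur orthogonality**, same component -/
theorem sum_trace_mul_trace_inv_self (hπ : Function.Surjective π) (i : Fin m)
    (hd : (d i : F) ≠ 0) :
    ∑ g : G, (compRep π i g).trace * (compRep π i g⁻¹).trace = (Fintype.card G : F) := by
  classical
  have h0 : ∀ (a b : Fin (d i)),
      (d i : F) * ∑ g : G, compRep π i g a a * compRep π i g⁻¹ b b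
        = if a = b then (Fintype.card G : F) else 0 := by
    intro a b
    rw [← avgMat_single_apply]
    obtain ⟨c, hc⟩ := intertwiner_eq_scalar π hπ i _
      (avgMat_intertwines π i i (Matrix.single a b 1))
    have htr := trace_avgMat π i (Matrix.single a b 1)
    rw [hc, Matrix.trace_smul, Matrix.trace_one, Fintype.card_fin, smul_eq_mul] at htr
    rw [hc, Matrix.smul_apply, Matrix.one_apply, smul_eq_mul]
    split_ifs with hab
    · subst hab
      rw [Matrix.trace_single_eq_same, mul_one] at htr
      rw [mul_one, mul_comm]
      exact htr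
    · rw [mul_zero, mul_zero]
  have hsum : (d i : F) * ∑ g : G, (compRep π i g).trace * (compRep π i g⁻¹).trace
      = (d i : F) * (Fintype.card G : F) := by
    simp only [Matrix.trace, Matrix.diag_apply, Finset.sum_mul_sum]
    rw [Finset.sum_comm, Finset.mul_sum]
    have : ∀ a : Fin (d i), (d i : F) * ∑ g : G, ∑ b : Fin (d i),
        compRep π i g a a * compRep π i g⁻¹ b b = (Fintype.card G : F) := by
      intro a
      rw [Finset.sum_comm, Finset.mul_sum]
      rw [Finset.sum_congr rfl (fun b _ => h0 a b)]
      simp
    rw [Finset.sum_congr rfl (fun a _ => this a), Finset.sum_const, Finset.card_univ,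
      Fintype.card_fin, nsmul_eq_mul]
  exact mul_left_cancel₀ hd hsum

end Average

end Cfsg.Agent.Lib.Helper80.BC
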