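import Mathlib
import Cfsg.Agent.Lib.Helper78.CharMore
import Cfsg.Agent.Lib.Helper80.CharBasic
import Cfsg.Agent.Lib.Helper80.BC.WedComp

/-!
# Every irreducible complex character is afforded by a representation over any algebraically
closed subfield

Let `K` be an algebraically closed field of characteristic zero with an embedding `ι : K →+* ℂ`
(for instance the field of algebraic numbers).  Then every irreducible complex character of a
finite group `G` is the trace of a matrix representation of `G` over `K`.
-/

set_option autoImplicit false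
set_option linter.unusedSectionVars false

namespace Cfsg.Agent.Lib.Helper80.BC

open Cfsg MonoidAlgebra
open scoped ComplexConjugate

universe u

section MatRep

variable {G : Type u} [Group G]

/-- the complex representation attached to a complex matrix representation -/
noncomputable def matRepToRep {n : ℕ} (σ : G →* Matrix (Fin n) (Fin n) ℂ) :
    Representation ℂ G (Fin n → ℂ) :=
  (Matrix.toLinAlgEquiv' : Matrix (Fin n) (Fin n) ℂ ≃ₐ[ℂ] _).toRingEquiv.toMulEquiv.toMonoidHom.comp σ

theorem matRepToRep_character {n : ℕ} (σ : G →* Matrix (Fin n) (Fin n) ℂ) (g : G) :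
    (matRepToRep σ).character g = (σ g).trace := by
  show LinearMap.trace ℂ _ (Matrix.toLin' (σ g)) = _
  exact Matrix.trace_toLin'_eq _

/-- the trace function of a complex matrix representation is a character -/
theorem isCharacter_trace {n : ℕ} (σ : G →* Matrix (Fin n) (Fin n) ℂ) :
    IsCharacter G (fun g => (σ g).trace) :=
  ⟨n, matRepToRep σ, funext (matRepToRep_character σ)⟩

/-- the trace function of a matrix representation over a subfield is a character -/
theorem isCharacter_trace_map {K : Type*} [Field K] (ι : K →+* ℂ) {n : ℕ}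
    (σ : G →* Matrix (Fin n) (Fin n) K) : IsCharacter G (fun g => ι (σ g).trace) := by
  have h := isCharacter_trace
    ((ι.mapMatrix (m := Fin n)).toMonoidHom.comp σ)
  convert h using 2 with g
  exact AddMonoidHom.map_trace ι (σ g)

end MatRep

section Main

theorem exists_wedderburn_iso (K : Type*) [Field K] [IsAlgClosed K] [CharZero K]
    (G : Type u) [Group G] [Finite G] :
    ∃ (m : ℕ) (d : Fin m → ℕ), (∀ i, NeZero (d i)) ∧
      Nonempty (MonoidAlgebra K G ≃ₐ[K] (Π i : Fin m, Matrix (Fin (d i)) (Fin (d i)) K)) := by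
  have : NeZero (Nat.card G : K) := ⟨by exact_mod_cast (Nat.card_pos (α := G)).ne'⟩
  exact IsSemisimpleRing.exists_algEquiv_pi_matrix_of_isAlgClosed K (MonoidAlgebra K G)

variable {K : Type*} [Field K] [CharZero K] (ι : K →+* ℂ)
  {G : Type u} [Group G] [Fintype G] {m : ℕ} {d : Fin m → ℕ}
  (π : MonoidAlgebra K G →ₐ[K] (Π i : Fin m, Matrix (Fin (d i)) (Fin (d i)) K))

/-- the complex character of the `i`-th Wedderburn component -/
noncomputable def compChar (i : Fin m) : G → ℂ :=
  fun g => ι (compRep π i g).trace

theorem isCharacter_compChar (i : Fin m) : IsCharacter G (compChar ι π i) :=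
  isCharacter_trace_map ι _

theorem compChar_one (i : Fin m) : compChar ι π i 1 = (d i : ℂ) := by
  unfold compChar
  rw [map_one, Matrix.trace_one, Fintype.card_fin, map_natCast]

theorem classInner_compChar [DecidableEq (Fin m)] (hπ : Function.Surjective π)
    (hd : ∀ i, d i ≠ 0) (i j : Fin m) :
    classInner (compChar ι π i) (compChar ι π j) = if i = j then 1 else 0 := by
  have hcard : (Nat.card G : ℂ) ≠ 0 := by
    exact_mod_cast (Nat.card_pos (α := G)).ne'
  unfold classInner
  have h1 : ∀ g : G, compChar ι π i g * conj (compChar ι π j g)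
      = ι ((compRep π i g).trace * (compRep π j g⁻¹).trace) := by
    intro g
    rw [Cfsg.Agent.Lib.Helper80.char_conj_eq_inv (isCharacter_compChar ι π j) g, map_mul]
    rfl
  rw [Finset.sum_congr rfl (fun g _ => h1 g), ← map_sum]
  split_ifs with hij
  · subst hij
    have hdi : (d i : K) ≠ 0 := by exact_mod_cast hd i
    rw [sum_trace_mul_trace_inv_self _ hπ i hdi, map_natCast, Nat.card_eq_fintype_card,
      inv_mul_cancel₀]
    rw [← Nat.card_eq_fintype_card]
    exact hcard
  · rw [sum_trace_mul_trace_inv_of_ne _ hπ hij, map_zero, mul_zero]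

theorem isIrrCharacter_compChar (hπ : Function.Surjective π) (hd : ∀ i, d i ≠ 0) (i : Fin m) :
    IsIrrCharacter G (compChar ι π i) := by
  classical
  apply Cfsg.Agent.Lib.Helper78.isIrrCharacter_of_classInner_self_eq_one
    (isCharacter_compChar ι π i)
  rw [classInner_compChar ι π hπ hd, if_pos rfl]

theorem compChar_injective (hπ : Function.Surjective π) (hd : ∀ i, d i ≠ 0) :
    Function.Injective (compChar ι π) := by
  classical
  intro i j hij
  by_contra hne
  have h1 := classInner_compChar ι π hπ hd i j
  rw [if_neg hne, ← hij, classInner_compChar ι π hπ hd i i, if_pos rfl] at h1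
  exact one_ne_zero h1

theorem charDegree_compChar (i : Fin m) : charDegree (compChar ι π i) = d i :=
  Cfsg.Agent.Lib.Helper80.charDegree_natCast (compChar_one ι π i)

theorem sum_sq_eq_card (hπ : Function.Bijective π) : ∑ i : Fin m, (d i) ^ 2 = Fintype.card G := by
  have e : MonoidAlgebra K G ≃ₗ[K] (Π i : Fin m, Matrix (Fin (d i)) (Fin (d i)) K) :=
    LinearEquiv.ofBijective π.toLinearMap hπ
  have h1 := e.finrank_eq
  rw [Module.finrank_eq_card_basis (MonoidAlgebra.basis G K), Module.finrank_pi_fintype] at h1
  rw [h1]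
  apply Finset.sum_congr rfl
  intro i _
  rw [Module.finrank_matrix, Module.finrank_self, Fintype.card_fin]
  ring

/-- **Realizability.** every irreducible complex character is the character of a Wedderburn
component of the group algebra over `K`. -/
theorem exists_compChar_eq (hπ : Function.Bijective π) (hd : ∀ i, d i ≠ 0) {χ : G → ℂ}
    (hχ : IsIrrCharacter G χ) : ∃ i, χ = compChar ι π i := by
  classical
  by_contra hcon
  push Not at hcon
  let f : Fin m → IrrCharacter G := fun i => ⟨compChar ι π i, isIrrCharacter_compChar ι π hπ.2 hd i⟩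
  have hf : Function.Injective f := by
    intro i j hij
    exact compChar_injective ι π hπ.2 hd (congrArg Subtype.val hij)
  have hnot : (⟨χ, hχ⟩ : IrrCharacter G) ∉ Finset.univ.image f := by
    intro h
    obtain ⟨i, -, hi⟩ := Finset.mem_image.mp h
    exact hcon i (congrArg Subtype.val hi).symm
  have hlt : ∑ ψ ∈ Finset.univ.image f, (charDegree (ψ : G → ℂ)) ^ 2
      < ∑ ψ : IrrCharacter G, (charDegree (ψ : G → ℂ)) ^ 2 := by
    apply Finset.sum_lt_sum_of_subset (Finset.subset_univ _) (Finset.mem_univ ⟨χ, hχ⟩) hnot
    · exact pow_pos (Cfsg.Agent.Lib.Helper80.charDegree_pos_of_isIrr hχ) 2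
    · intro ψ _ _
      exact Nat.zero_le _
  rw [Finset.sum_image (fun i _ j _ hij => hf hij),
    Cfsg.Agent.Lib.Helper78.sum_irr_charDegree_sq, Nat.card_eq_fintype_card] at hlt
  have h2 : ∑ i : Fin m, (charDegree ((f i : IrrCharacter G) : G → ℂ)) ^ 2
      = ∑ i : Fin m, (d i) ^ 2 :=
    Finset.sum_congr rfl (fun i _ => by rw [charDegree_compChar])
  rw [h2, sum_sq_eq_card π hπ] at hlt
  exact lt_irrefl _ hlt

end Main

/-- **Realizability over an algebraically closed subfield.** -/
theorem exists_matrixRep_of_isIrr {K : Type*} [Field K] [IsAlgClosed K] [CharZero K]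
    (ι : K →+* ℂ) {G : Type u} [Group G] [Finite G] {χ : G → ℂ} (hχ : IsIrrCharacter G χ) :
    ∃ (n : ℕ) (σ : G →* Matrix (Fin n) (Fin n) K), ∀ g, ι (σ g).trace = χ g := by
  classical
  have := Fintype.ofFinite G
  obtain ⟨m, d, hd, ⟨π⟩⟩ := exists_wedderburn_iso K G
  obtain ⟨i, hi⟩ := exists_compChar_eq ι (π : MonoidAlgebra K G →ₐ[K] _) π.bijective
    (fun i => NeZero.ne (d i)) hχ
  exact ⟨d i, compRep (π : MonoidAlgebra K G →ₐ[K] _) i, fun g => by rw [hi]; rfl⟩

end Cfsg.Agent.Lib.Helper80.BC
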