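import Mathlib

/-!
# Stable lattices: representations over the fraction field of a valuation ring are integral

For a local Bezout domain `R` (i.e. a valuation ring) with fraction field `K`, every matrix
representation `ρ : G →* Mₙ(K)` of a finite group is conjugate (over `K`) to a representation with
entries in `R`.
-/

set_option autoImplicit false
set_option linter.unusedSectionVars false

namespace Cfsg.Agent.Lib.Helper80.BC

open Module

section Basic

variable {R K : Type*} [CommRing R] [Field K] [Algebra R K] {G : Type*} [Group G] {n : ℕ}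

/-- the generators of the standard stable lattice: the columns of all `ρ g` -/
def latGens (ρ : G →* Matrix (Fin n) (Fin n) K) : G × Fin n → (Fin n → K) :=
  fun x => (ρ x.1).mulVec (Pi.single x.2 1)

/-- the standard stable lattice -/
def stdLattice (R : Type*) [CommRing R] [Algebra R K] (ρ : G →* Matrix (Fin n) (Fin n) K) :
    Submodule R (Fin n → K) :=
  Submodule.span R (Set.range (latGens ρ))

theorem stdLattice_fg [Finite G] (ρ : G →* Matrix (Fin n) (Fin n) K) : (stdLattice R ρ).FG :=
  Submodule.fg_span (Set.finite_range _)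

theorem single_mem_stdLattice (ρ : G →* Matrix (Fin n) (Fin n) K) (i : Fin n) :
    (Pi.single i 1 : Fin n → K) ∈ stdLattice R ρ := by
  apply Submodule.subset_span
  refine ⟨(1, i), ?_⟩
  show (ρ 1).mulVec (Pi.single i 1) = Pi.single i 1
  rw [map_one, Matrix.one_mulVec]

theorem stdLattice_span_eq_top (ρ : G →* Matrix (Fin n) (Fin n) K) :
    Submodule.span K ((stdLattice R ρ : Submodule R (Fin n → K)) : Set (Fin n → K)) = ⊤ := by
  rw [eq_top_iff, ← (Pi.basisFun K (Fin n)).span_eq]
  apply Submodule.span_mono
  rintro _ ⟨i, rfl⟩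
  rw [Pi.basisFun_apply]
  exact single_mem_stdLattice ρ i

theorem stdLattice_stable (ρ : G →* Matrix (Fin n) (Fin n) K) (g : G) :
    ∀ v ∈ stdLattice R ρ, (ρ g).mulVec v ∈ stdLattice R ρ := by
  intro v hv
  have h : (stdLattice R ρ).map ((Matrix.mulVecLin (ρ g)).restrictScalars R) ≤ stdLattice R ρ := by
    rw [stdLattice, Submodule.map_span_le]
    rintro _ ⟨⟨h, i⟩, rfl⟩
    apply Submodule.subset_span
    refine ⟨(g * h, i), ?_⟩
    show (ρ (g * h)).mulVec (Pi.single i 1) = (ρ g).mulVec ((ρ h).mulVec (Pi.single i 1))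
    rw [map_mul, Matrix.mulVec_mulVec]
  exact h ⟨v, hv, rfl⟩

/-- the action of `G` on the standard lattice -/
noncomputable def stdLatticeAct (R : Type*) [CommRing R] [Algebra R K]
    (ρ : G →* Matrix (Fin n) (Fin n) K) : G →* Module.End R (stdLattice R ρ) where
  toFun g := ((Matrix.mulVecLin (ρ g)).restrictScalars R).restrict (stdLattice_stable ρ g)
  map_one' := by
    apply LinearMap.ext
    intro v
    apply Subtype.ext
    show (ρ 1).mulVec (v : Fin n → K) = v
    rw [map_one, Matrix.one_mulVec]
  map_mul' g h := by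
    apply LinearMap.ext
    intro v
    apply Subtype.ext
    show (ρ (g * h)).mulVec (v : Fin n → K) = (ρ g).mulVec ((ρ h).mulVec v)
    rw [map_mul, Matrix.mulVec_mulVec]

theorem stdLatticeAct_apply_coe (ρ : G →* Matrix (Fin n) (Fin n) K) (g : G)
    (v : stdLattice R ρ) :
    ((stdLatticeAct R ρ g v : stdLattice R ρ) : Fin n → K) = (ρ g).mulVec v := rfl

end Basic

section Lattice

variable {R K : Type*} [CommRing R] [IsDomain R] [IsLocalRing R] [IsBezout R] [Field K]
  [Algebra R K] [IsFractionRing R K] {G : Type*} [Group G] [Finite G] {n : ℕ}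

instance stdLattice_isLattice (ρ : G →* Matrix (Fin n) (Fin n) K) :
    Submodule.IsLattice K (stdLattice R ρ) :=
  ⟨stdLattice_fg ρ, stdLattice_span_eq_top ρ⟩

instance stdLattice_finite (ρ : G →* Matrix (Fin n) (Fin n) K) :
    Module.Finite R (stdLattice R ρ) :=
  Module.Finite.iff_fg.mpr (stdLattice_fg ρ)

instance stdLattice_free (ρ : G →* Matrix (Fin n) (Fin n) K) :
    Module.Free R (stdLattice R ρ) := by
  have : Module.IsTorsionFree R (stdLattice R ρ) := inferInstance
  have : Module.Flat R (stdLattice R ρ) := by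
    rw [Module.Flat.flat_iff_torsion_eq_bot_of_isBezout]
    exact Submodule.isTorsionFree_iff_torsion_eq_bot.mp inferInstance
  exact Module.free_of_flat_of_isLocalRing

/-- **Stable lattice theorem.** Over a local Bezout domain `R` with fraction field `K`, every
matrix representation of a finite group over `K` is conjugate to one with entries in `R`. -/
theorem exists_integral_conj (ρ : G →* Matrix (Fin n) (Fin n) K) :
    ∃ (ρ' : G →* Matrix (Fin n) (Fin n) R) (P Q : Matrix (Fin n) (Fin n) K),
      P * Q = 1 ∧ Q * P = 1 ∧ ∀ g, (ρ' g).map (algebraMap R K) = P * ρ g * Q := by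
  classical
  let b := Module.Free.chooseBasis R (stdLattice R ρ)
  let bK := b.extendOfIsLattice K
  have hcard : Fintype.card (Module.Free.ChooseBasisIndex R (stdLattice R ρ))
      = Fintype.card (Fin n) := by
    rw [← Module.finrank_eq_card_basis bK, Fintype.card_fin, Module.finrank_fin_fun]
  let e := Fintype.equivOfCardEq hcard
  let b' := b.reindex e
  let bK' := bK.reindex e
  have hbK' : ∀ i, bK' i = (b' i : Fin n → K) := by
    intro i
    simp [bK', b', bK]
  have hrepr : ∀ (x : stdLattice R ρ) i,
      bK'.repr (x : Fin n → K) i = algebraMap R K (b'.repr x i) := by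
    intro x i
    have h1 : (x : Fin n → K) = ∑ j, (algebraMap R K (b'.repr x j)) • bK' j := by
      conv_lhs => rw [← b'.sum_repr x]
      rw [Submodule.coe_sum]
      apply Finset.sum_congr rfl
      intro j _
      rw [Submodule.coe_smul, hbK', algebraMap_smul]
    rw [h1, Basis.repr_sum_self]
  refine ⟨(LinearMap.toMatrixAlgEquiv b').toRingEquiv.toMulEquiv.toMonoidHom.comp
      (stdLatticeAct R ρ), bK'.toMatrix (Pi.basisFun K (Fin n)),
      (Pi.basisFun K (Fin n)).toMatrix bK', ?_, ?_, ?_⟩
  · exact Basis.toMatrix_mul_toMatrix_flip _ _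
  · exact Basis.toMatrix_mul_toMatrix_flip _ _
  · intro g
    have h2 : bK'.toMatrix (Pi.basisFun K (Fin n)) * ρ g * (Pi.basisFun K (Fin n)).toMatrix bK'
        = LinearMap.toMatrix bK' bK' (Matrix.mulVecLin (ρ g)) := by
      rw [← basis_toMatrix_mul_linearMap_toMatrix_mul_basis_toMatrix bK' (Pi.basisFun K (Fin n))
        bK' (Pi.basisFun K (Fin n)) (Matrix.mulVecLin (ρ g))]
      congr 2
      rw [LinearMap.toMatrix_eq_toMatrix', ← Matrix.toLin'_apply', LinearMap.toMatrix'_toLin']
    rw [h2]
    ext i j
    rw [Matrix.map_apply, LinearMap.toMatrix_apply]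
    show algebraMap R K ((LinearMap.toMatrixAlgEquiv b') (stdLatticeAct R ρ g) i j) = _
    rw [LinearMap.toMatrixAlgEquiv_apply, ← hrepr, stdLatticeAct_apply_coe, hbK']
    rfl

end Lattice

end Cfsg.Agent.Lib.Helper80.BC
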