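import Mathlib
import Cfsg.Agent.Lib.Helper77.ModResidue

/-!
# The local ring of the algebraic integers at a prime is a valuation ring

`localSubring M` (helper16) is the localisation of the ring of all algebraic integers at the
prime ideal `M`, realised inside `ℂ`.  We show (Seidenberg's trick + integral closedness) that it
is a valuation ring, hence a Bezout domain, so finitely generated torsion-free modules over it are
free.
-/

set_option autoImplicit false

namespace Cfsg.Agent.Lib.Helper80.BC

open Cfsg Cfsg.Agent.Lib.Helper16 Cfsg.Agent.Lib.Helper77.Modular Polynomial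

variable (M : Ideal AlgInt) [hMp : M.IsPrime]

/-- Seidenberg's lemma: a nonzero complex number killed by a polynomial over the local ring with
at least one unit coefficient lies in the local ring, or its inverse does. -/
theorem mem_or_inv_mem_of_aeval_eq_zero :
    ∀ (n : ℕ) (q : (localSubring M)[X]) (z : ℂ), q.natDegree ≤ n →
      (∃ j, IsUnit (q.coeff j)) → aeval z q = 0 → z ≠ 0 →
      z ∈ localSubring M ∨ z⁻¹ ∈ localSubring M := by
  intro n
  induction n with
  | zero =>
    intro q z hdeg hunit hz _
    exfalso
    rw [eq_C_of_natDegree_le_zero hdeg] at hz hunit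
    rw [aeval_C] at hz
    have h0 : q.coeff 0 = 0 := by
      apply Subtype.ext
      exact hz
    obtain ⟨j, hj⟩ := hunit
    rw [coeff_C] at hj
    split_ifs at hj with hj0
    · rw [h0] at hj
      exact not_isUnit_zero hj
    · exact not_isUnit_zero hj
  | succ n ih =>
    intro q z hdeg hunit hz hz0
    by_cases hdeg' : q.natDegree ≤ n
    · exact ih q z hdeg' hunit hz hz0
    have hdn : q.natDegree = n + 1 := by omega
    have hint : IsIntegral (localSubring M) (q.leadingCoeff • z) :=
      isIntegral_leadingCoeff_smul q z hz
    have hymem : q.leadingCoeff • z ∈ localSubring M := mem_localSubring_of_isIntegral M hint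
    have hsmul : q.leadingCoeff • z = (q.leadingCoeff : ℂ) * z := rfl
    by_cases ha : IsUnit q.leadingCoeff
    · left
      obtain ⟨b, hb⟩ := ha.exists_right_inv
      have hb' : (q.leadingCoeff : ℂ) * (b : ℂ) = 1 := congrArg Subtype.val hb
      have : z = (b : ℂ) * (q.leadingCoeff • z) := by
        rw [hsmul, ← mul_assoc, mul_comm (b : ℂ), hb', one_mul]
      rw [this]
      exact (localSubring M).mul_mem b.2 hymem
    · set y' : localSubring M := ⟨q.leadingCoeff • z, hymem⟩ with hy'
      by_cases hyu : IsUnit y'
      · right
        obtain ⟨b, hb⟩ := hyu.exists_right_inv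
        have hb' : (q.leadingCoeff • z) * (b : ℂ) = 1 := congrArg Subtype.val hb
        have : z⁻¹ = (q.leadingCoeff : ℂ) * (b : ℂ) := by
          rw [hsmul] at hb'
          field_simp
          rw [← hb']
          ring
        rw [this]
        exact (localSubring M).mul_mem q.leadingCoeff.2 b.2
      · -- new polynomial of smaller degree
        set q' : (localSubring M)[X] := q.eraseLead + C y' * X ^ n with hq'
        have hdq' : q'.natDegree ≤ n := by
          apply natDegree_add_le_of_degree_le
          · have := eraseLead_natDegree_le q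
            omega
          · exact natDegree_C_mul_X_pow_le _ _
        have hzq' : aeval z q' = 0 := by
          have h1 : aeval z q = aeval z q.eraseLead + (q.leadingCoeff : ℂ) * z ^ (n + 1) := by
            conv_lhs => rw [← eraseLead_add_C_mul_X_pow q]
            rw [map_add, map_mul, aeval_C, map_pow, aeval_X, hdn]
            rfl
          rw [hq', map_add, map_mul, aeval_C, map_pow, aeval_X]
          have h2 : (algebraMap (localSubring M) ℂ) y' = (q.leadingCoeff : ℂ) * z := rfl
          rw [h2]
          rw [h1] at hz
          rw [← hz]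
          ring
        apply ih q' z hdq' _ hzq' hz0
        obtain ⟨j, hj⟩ := hunit
        have hjne : j ≠ q.natDegree := by
          rintro rfl
          exact ha hj
        refine ⟨j, ?_⟩
        rw [hq', coeff_add, eraseLead_coeff_of_ne _ hjne, coeff_C_mul_X_pow]
        split_ifs with hjn
        · by_contra hcon
          apply hyu
          have h3 : y' = (q.coeff j + y') + (-(q.coeff j)) := by ring
          by_contra hyu'
          have h4 : q.coeff j ∈ nonunits (localSubring M) := by
            have h5 : q.coeff j = (q.coeff j + y') + (-y') := by ring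
            rw [h5]
            apply IsLocalRing.nonunits_add hcon
            rw [mem_nonunits_iff, IsUnit.neg_iff]
            exact hyu'
          exact h4 hj
        · rw [add_zero]
          exact hj

/-- every element of the local ring is algebraic over `ℤ` -/
theorem isAlgebraic_of_mem_localSubring {z : ℂ} (hz : z ∈ localSubring M) : IsAlgebraic ℤ z := by
  obtain ⟨a, b, hb, rfl⟩ := hz
  have ha' : IsAlgebraic ℚ (a : ℂ) :=
    (IsFractionRing.isAlgebraic_iff ℤ ℚ ℂ).mp a.2.isAlgebraic
  have hb' : IsAlgebraic ℚ (b : ℂ) :=
    (IsFractionRing.isAlgebraic_iff ℤ ℚ ℂ).mp b.2.isAlgebraic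
  rw [IsFractionRing.isAlgebraic_iff ℤ ℚ ℂ, div_eq_mul_inv]
  exact ha'.mul hb'.inv

/-- a primitive integer polynomial has a coefficient outside `M` -/
theorem exists_coeff_not_mem_of_isPrimitive {f : ℤ[X]} (hf : f.IsPrimitive) :
    ∃ j, ((f.coeff j : ℤ) : AlgInt) ∉ M := by
  by_contra hcon
  push Not at hcon
  set I : Ideal ℤ := M.comap (Int.castRingHom AlgInt) with hI
  have hprin : I.IsPrincipal := inferInstance
  obtain ⟨m, hm⟩ := hprin.principal
  have hdvd : C m ∣ f := by
    rw [C_dvd_iff_dvd_coeff]
    intro j
    have h1 : f.coeff j ∈ I := by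
      rw [hI, Ideal.mem_comap]
      exact hcon j
    rw [hm] at h1
    exact (Submodule.mem_span_singleton.mp h1).imp (fun c hc => by rw [← hc]; exact (mul_comm _ _))
  have hu : IsUnit m := hf m hdvd
  have h1 : (1 : ℤ) ∈ I := by
    rw [hm]
    obtain ⟨c, hc⟩ := hu.exists_left_inv
    exact Submodule.mem_span_singleton.mpr ⟨c, by rw [← hc]; rfl⟩
  rw [hI, Ideal.mem_comap, map_one] at h1
  exact hMp.ne_top ((Ideal.eq_top_iff_one M).mpr h1)

/-- divisibility is total on the local ring -/
theorem localSubring_dvd_total (a b : localSubring M) : a ∣ b ∨ b ∣ a := by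
  by_cases ha : a = 0
  · right
    rw [ha]
    exact dvd_zero b
  by_cases hb : b = 0
  · left
    rw [hb]
    exact dvd_zero a
  have ha' : (a : ℂ) ≠ 0 := fun h => ha (Subtype.ext h)
  have hb' : (b : ℂ) ≠ 0 := fun h => hb (Subtype.ext h)
  set z : ℂ := (b : ℂ) / (a : ℂ) with hz
  have hz0 : z ≠ 0 := div_ne_zero hb' ha'
  have hzalg : IsAlgebraic ℤ z := by
    have h1 := isAlgebraic_of_mem_localSubring M a.2
    have h2 := isAlgebraic_of_mem_localSubring M b.2
    rw [IsFractionRing.isAlgebraic_iff ℤ ℚ ℂ] at h1 h2 ⊢
    rw [hz, div_eq_mul_inv]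
    exact h2.mul h1.inv
  obtain ⟨f, hf0, hfz⟩ := hzalg
  have hprim : f.primPart.IsPrimitive := f.isPrimitive_primPart
  have hfz' : aeval z f.primPart = 0 := aeval_primPart_eq_zero hf0 hfz
  obtain ⟨j, hj⟩ := exists_coeff_not_mem_of_isPrimitive M hprim
  set q : (localSubring M)[X] := f.primPart.map (Int.castRingHom (localSubring M)) with hq
  have hqz : aeval z q = 0 := by
    rw [hq, aeval_def, eval₂_map]
    have : (algebraMap (localSubring M) ℂ).comp (Int.castRingHom (localSubring M))
        = algebraMap ℤ ℂ := RingHom.ext_int _ _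
    rw [this, ← aeval_def]
    exact hfz'
  have hunit : ∃ j, IsUnit (q.coeff j) := by
    refine ⟨j, ?_⟩
    rw [hq, coeff_map]
    apply isUnit_of_not_mem_localIdeal
    rw [mem_localIdeal]
    have : ((Int.castRingHom (localSubring M)) (f.primPart.coeff j) : ℂ)
        = (((f.primPart.coeff j : ℤ) : AlgInt) : ℂ) := by
      simp
    rw [this, memLocalIdeal_coe_iff]
    exact hj
  rcases mem_or_inv_mem_of_aeval_eq_zero M _ q z le_rfl hunit hqz hz0 with h | h
  · left
    refine ⟨⟨z, h⟩, ?_⟩
    apply Subtype.ext
    show (b : ℂ) = (a : ℂ) * z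
    rw [hz]
    field_simp
  · right
    refine ⟨⟨z⁻¹, h⟩, ?_⟩
    apply Subtype.ext
    show (a : ℂ) = (b : ℂ) * z⁻¹
    rw [hz]
    field_simp

instance localSubring_valuationRing : ValuationRing (localSubring M) :=
  ValuationRing.iff_dvd_total.mpr ⟨localSubring_dvd_total M⟩

/-- finitely generated torsion-free modules over the local ring are free -/
theorem free_of_finite_of_isTorsionFree (L : Type*) [AddCommGroup L] [Module (localSubring M) L]
    [Module.Finite (localSubring M) L] [Module.IsTorsionFree (localSubring M) L] :
    Module.Free (localSubring M) L := by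
  have : Module.Flat (localSubring M) L := by
    rw [Module.Flat.flat_iff_torsion_eq_bot_of_isBezout]
    exact Submodule.isTorsionFree_iff_torsion_eq_bot.mp inferInstance
  exact Module.free_of_flat_of_isLocalRing

end Cfsg.Agent.Lib.Helper80.BC
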