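import Mathlib
import Cfsg.Agent.Lib.Helper80.BC.ValRing

/-!
# The field of algebraic numbers as fraction field of the local ring

`QBar = algebraicClosure ℚ ℂ` is algebraically closed of characteristic zero and is the fraction
field of `localSubring M` for every prime ideal `M` of the ring of algebraic integers.
-/

set_option autoImplicit false

namespace Cfsg.Agent.Lib.Helper80.BC

open Cfsg Cfsg.Agent.Lib.Helper16 Cfsg.Agent.Lib.Helper77.Modular Polynomial

/-- the field of algebraic numbers inside `ℂ` -/
abbrev QBar : Type := algebraicClosure ℚ ℂ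

instance qbar_isAlgClosed : IsAlgClosed QBar :=
  IsAlgClosure.isAlgClosed ℚ (self := algebraicClosure.isAlgClosure ℚ ℂ)

variable (M : Ideal AlgInt) [hMp : M.IsPrime]

theorem mem_qbar_of_mem_localSubring {z : ℂ} (hz : z ∈ localSubring M) :
    z ∈ algebraicClosure ℚ ℂ := by
  rw [mem_algebraicClosure_iff, ← IsFractionRing.isAlgebraic_iff ℤ ℚ ℂ]
  exact isAlgebraic_of_mem_localSubring M hz

/-- the inclusion of the local ring in the algebraic numbers -/
noncomputable def localToQBar : localSubring M →+* QBar where
  toFun z := ⟨(z : ℂ), mem_qbar_of_mem_localSubring M z.2⟩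
  map_one' := rfl
  map_mul' _ _ := rfl
  map_zero' := rfl
  map_add' _ _ := rfl

noncomputable instance localSubring_algebra_qbar : Algebra (localSubring M) QBar := (localToQBar M).toAlgebra

theorem algebraMap_localSubring_qbar_coe (z : localSubring M) :
    ((algebraMap (localSubring M) QBar z : QBar) : ℂ) = (z : ℂ) := rfl

theorem algebraMap_localSubring_qbar_injective :
    Function.Injective (algebraMap (localSubring M) QBar) := by
  intro x y h
  apply Subtype.ext
  exact congrArg (fun t : QBar => (t : ℂ)) h

instance localSubring_faithfulSMul_qbar : FaithfulSMul (localSubring M) QBar :=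
  (faithfulSMul_iff_algebraMap_injective _ _).mpr (algebraMap_localSubring_qbar_injective M)

/-- every algebraic number is a quotient of an algebraic integer by a nonzero integer -/
theorem exists_div_eq_of_isAlgebraic {z : ℂ} (hz : IsAlgebraic ℚ z) :
    ∃ (a : AlgInt) (n : ℤ), n ≠ 0 ∧ z = (a : ℂ) / (n : ℂ) := by
  rw [← IsFractionRing.isAlgebraic_iff ℤ ℚ ℂ] at hz
  obtain ⟨n, hn, hint⟩ := hz.exists_integral_multiple
  refine ⟨⟨n • z, hint⟩, n, hn, ?_⟩
  have hn' : (n : ℂ) ≠ 0 := by exact_mod_cast hn
  show z = (n • z) / (n : ℂ)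
  rw [zsmul_eq_mul, mul_div_cancel_left₀ _ hn']

instance localSubring_isFractionRing_qbar : IsFractionRing (localSubring M) QBar := by
  apply IsFractionRing.of_field
  intro z
  obtain ⟨a, n, hn, hz⟩ := exists_div_eq_of_isAlgebraic (mem_algebraicClosure_iff.mp z.2)
  refine ⟨algIntToLocal M a, (n : localSubring M), ?_⟩
  apply Subtype.ext
  rw [hz]
  simp [algebraMap_localSubring_qbar_coe, algIntToLocal]

end Cfsg.Agent.Lib.Helper80.BC
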