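import Mathlib
import Cfsg.Agent.Lib.Helper80.BC.QBar
import Cfsg.Agent.Lib.Helper80.BC.Lattice
import Cfsg.Agent.Lib.Helper80.BC.AlgReal

/-!
# Irreducible characters are afforded by representations over the local ring

For every prime ideal `M` of the ring of algebraic integers and every irreducible complex character
`χ` of a finite group `G` there is a matrix representation of `G` with entries in
`localSubring M` whose trace is `χ`.
-/

set_option autoImplicit false

namespace Cfsg.Agent.Lib.Helper80.BC

open Cfsg Cfsg.Agent.Lib.Helper16 Cfsg.Agent.Lib.Helper77.Modular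

universe u

variable (M : Ideal AlgInt) [hMp : M.IsPrime]

/-- every matrix representation over the algebraic numbers is conjugate to one over the local
ring; in particular the traces agree -/
theorem exists_localRep_of_qbarRep {G : Type u} [Group G] [Finite G] {n : ℕ}
    (σ : G →* Matrix (Fin n) (Fin n) QBar) :
    ∃ ρ : G →* Matrix (Fin n) (Fin n) (localSubring M),
      ∀ g, (((ρ g).trace : localSubring M) : ℂ) = (((σ g).trace : QBar) : ℂ) := by
  obtain ⟨ρ, P, Q, hPQ, hQP, hρ⟩ := exists_integral_conj (R := localSubring M) (K := QBar) σ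
  refine ⟨ρ, fun g => ?_⟩
  have h1 : algebraMap (localSubring M) QBar (ρ g).trace = (σ g).trace := by
    rw [AddMonoidHom.map_trace (algebraMap (localSubring M) QBar) (ρ g)]
    have : (ρ g).map (⇑(algebraMap (localSubring M) QBar)) = P * σ g * Q := hρ g
    rw [this, Matrix.trace_mul_comm, ← Matrix.mul_assoc, hQP, Matrix.one_mul]
  rw [← h1]
  rfl

/-- **Integral realizability.** -/
theorem exists_localRep_of_isIrr {G : Type u} [Group G] [Finite G] {χ : G → ℂ}
    (hχ : IsIrrCharacter G χ) :
    ∃ (n : ℕ) (ρ : G →* Matrix (Fin n) (Fin n) (localSubring M)),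
      ∀ g, (((ρ g).trace : localSubring M) : ℂ) = χ g := by
  obtain ⟨n, σ, hσ⟩ := exists_matrixRep_of_isIrr (algebraMap QBar ℂ) hχ
  obtain ⟨ρ, hρ⟩ := exists_localRep_of_qbarRep M σ
  exact ⟨n, ρ, fun g => by rw [hρ g]; exact hσ g⟩

end Cfsg.Agent.Lib.Helper80.BC
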