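import Mathlib

/-!
# Matrix representations satisfying the Schur relations are irreducible

For a matrix representation `τ : G →* M_n(F)` of a finite group over a field, the *Schur relation*
`n • ∑ g, τ g * Y * τ g⁻¹ = (|G| * tr Y) • 1` (for all `Y`) with `|G| ≠ 0` in `F` forces the
associated representation on `Fin n → F` to be irreducible.  Also: vanishing of all averaged
matrices `∑ g, τ g * Y * τ' g⁻¹` excludes nonzero intertwiners.
-/

set_option autoImplicit false
set_option linter.unusedSectionVars false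

namespace Cfsg.Agent.Lib.Helper80.BC

variable {F : Type*} [Field F] {G : Type*} [Group G]

/-- the representation on `Fin n → F` attached to a matrix representation -/
noncomputable def matRep {n : ℕ} (τ : G →* Matrix (Fin n) (Fin n) F) :
    Representation F G (Fin n → F) :=
  (Matrix.toLinAlgEquiv' : Matrix (Fin n) (Fin n) F ≃ₐ[F] _).toRingEquiv.toMulEquiv.toMonoidHom.comp τ

theorem matRep_apply {n : ℕ} (τ : G →* Matrix (Fin n) (Fin n) F) (g : G) (v : Fin n → F) :
    matRep τ g v = (τ g).mulVec v := rfl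

variable [Fintype G]

/-- the Schur relation for a matrix representation (over any commutative ring) -/
def SchurRel {A : Type*} [CommRing A] {n : ℕ} (τ : G →* Matrix (Fin n) (Fin n) A) : Prop :=
  ∀ Y : Matrix (Fin n) (Fin n) A,
    (n : A) • ∑ g : G, τ g * Y * τ g⁻¹ = ((Fintype.card G : A) * Y.trace) • (1 : Matrix (Fin n) (Fin n) A)

/-- class functions act by scalars -/
def CentralScalar {A : Type*} [CommRing A] {n : ℕ} (τ : G →* Matrix (Fin n) (Fin n) A) : Prop :=
  ∀ z : G → A, (∀ g h : G, z (h * g * h⁻¹) = z g) →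
    ∃ ω : A, ∑ g : G, z g • τ g = ω • (1 : Matrix (Fin n) (Fin n) A)

theorem natCast_ne_zero_of_schurRel {n : ℕ} (hn : 0 < n) (τ : G →* Matrix (Fin n) (Fin n) F)
    (hτ : SchurRel τ) (hG : (Fintype.card G : F) ≠ 0) : (n : F) ≠ 0 := by
  classical
  intro h0
  have h1 := hτ (Matrix.single (⟨0, hn⟩ : Fin n) ⟨0, hn⟩ 1)
  rw [h0, zero_smul, Matrix.trace_single_eq_same, mul_one] at h1
  have h2 := congrFun (congrFun h1 ⟨0, hn⟩) ⟨0, hn⟩
  rw [Matrix.zero_apply, Matrix.smul_apply, Matrix.one_apply_eq, smul_eq_mul, mul_one] at h2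
  exact hG h2.symm

/-- **Schur relations imply irreducibility.** -/
theorem isIrreducible_of_schurRel {n : ℕ} (hn : 0 < n) (τ : G →* Matrix (Fin n) (Fin n) F)
    (hτ : SchurRel τ) (hG : (Fintype.card G : F) ≠ 0) : (matRep τ).IsIrreducible := by
  classical
  have hn0 : (n : F) ≠ 0 := natCast_ne_zero_of_schurRel hn τ hτ hG
  have hnt : Nontrivial (Subrepresentation (matRep τ)) := by
    refine ⟨⟨⊥, ⊤, ?_⟩⟩
    intro h
    have h1 : (⊥ : Subrepresentation (matRep τ)).toSubmodule =
        (⊤ : Subrepresentation (matRep τ)).toSubmodule := by rw [h]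
    have h2 : (Pi.single (⟨0, hn⟩ : Fin n) (1 : F) : Fin n → F) ∈ (⊤ : Submodule F (Fin n → F)) :=
      Submodule.mem_top
    have h3 : (Pi.single (⟨0, hn⟩ : Fin n) (1 : F) : Fin n → F) ∈ (⊥ : Submodule F (Fin n → F)) := by
      have : (⊥ : Submodule F (Fin n → F)) = ⊤ := h1
      rw [this]
      exact h2
    have h4 := congrFun ((Submodule.mem_bot F).mp h3) ⟨0, hn⟩
    rw [Pi.single_eq_same] at h4
    exact one_ne_zero h4
  refine @IsSimpleOrder.mk _ _ _ hnt ?_
  intro σ
  by_cases hb : σ = ⊥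
  · exact Or.inl hb
  right
  -- a nonzero vector of `σ`
  have hne : σ.toSubmodule ≠ ⊥ := by
    intro h
    apply hb
    exact Subrepresentation.toSubmodule_injective h
  obtain ⟨u, huU, hu0⟩ := (Submodule.ne_bot_iff _).mp hne
  obtain ⟨k, hk⟩ : ∃ k, u k ≠ 0 := by
    by_contra hcon
    push Not at hcon
    exact hu0 (funext hcon)
  apply Subrepresentation.toSubmodule_injective
  apply le_antisymm le_top
  intro v _
  -- the rank-one matrix
  set Y : Matrix (Fin n) (Fin n) F := Matrix.vecMulVec u (Pi.single k (u k)⁻¹) with hY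
  have htr : Y.trace = 1 := by
    rw [hY, Matrix.trace, Finset.sum_eq_single k]
    · rw [Matrix.diag_apply, Matrix.vecMulVec_apply, Pi.single_eq_same, mul_inv_cancel₀ hk]
    · intro j _ hj
      rw [Matrix.diag_apply, Matrix.vecMulVec_apply, Pi.single_eq_of_ne hj, mul_zero]
    · intro h
      exact absurd (Finset.mem_univ k) h
  have hrel := hτ Y
  rw [htr, mul_one] at hrel
  have hv : ((n : F)⁻¹ * (Fintype.card G : F)) • v =
      (∑ g : G, τ g * Y * τ g⁻¹).mulVec v := by
    have h1 : (∑ g : G, τ g * Y * τ g⁻¹) = ((n : F)⁻¹ * (Fintype.card G : F)) • (1 : Matrix (Fin n) (Fin n) F) := by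
      rw [mul_smul, ← hrel, smul_smul, inv_mul_cancel₀ hn0, one_smul]
    rw [h1, Matrix.smul_mulVec, Matrix.one_mulVec]
  have hc : (n : F)⁻¹ * (Fintype.card G : F) ≠ 0 := mul_ne_zero (inv_ne_zero hn0) hG
  have hmem : (∑ g : G, τ g * Y * τ g⁻¹).mulVec v ∈ σ.toSubmodule := by
    rw [Matrix.sum_mulVec]
    refine Submodule.sum_mem _ fun g _ => ?_
    rw [← Matrix.mulVec_mulVec, ← Matrix.mulVec_mulVec]
    have h2 : Y.mulVec ((τ g⁻¹).mulVec v) =
        (Pi.single k (u k)⁻¹ ⬝ᵥ (τ g⁻¹).mulVec v) • u := by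
      rw [hY, Matrix.vecMulVec_mulVec]
      funext j
      rw [Pi.smul_apply, Pi.smul_apply, MulOpposite.smul_eq_mul_unop, MulOpposite.unop_op,
        smul_eq_mul, mul_comm]
    rw [h2, Matrix.mulVec_smul]
    apply Submodule.smul_mem
    have := σ.apply_mem_toSubmodule g huU
    rw [matRep_apply] at this
    exact this
  rw [← hv] at hmem
  have := Submodule.smul_mem σ.toSubmodule ((n : F)⁻¹ * (Fintype.card G : F))⁻¹ hmem
  rw [smul_smul, inv_mul_cancel₀ hc, one_smul] at this
  exact this

/-- vanishing of all averaged matrices excludes nonzero intertwiners -/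
theorem intertwiner_eq_zero_of_avg {n n' : ℕ} (τ : G →* Matrix (Fin n) (Fin n) F)
    (τ' : G →* Matrix (Fin n') (Fin n') F)
    (havg : ∀ Y : Matrix (Fin n) (Fin n') F, ∑ g : G, τ g * Y * τ' g⁻¹ = 0)
    (hG : (Fintype.card G : F) ≠ 0) (Y : Matrix (Fin n) (Fin n') F)
    (hY : ∀ g, τ g * Y = Y * τ' g) : Y = 0 := by
  have h1 : ∑ g : G, τ g * Y * τ' g⁻¹ = (Fintype.card G : F) • Y := by
    have h2 : ∀ g : G, τ g * Y * τ' g⁻¹ = Y := by
      intro g
      rw [hY g, Matrix.mul_assoc, ← map_mul, mul_inv_cancel, map_one, Matrix.mul_one]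
    rw [Finset.sum_congr rfl (fun g _ => h2 g), Finset.sum_const, Finset.card_univ,
      Nat.cast_smul_eq_nsmul]
  rw [havg Y] at h1
  rcases smul_eq_zero.mp h1.symm with h | h
  · exact absurd h hG
  · exact h

section Transfer

variable {A B : Type*} [CommRing A] [CommRing B] {n : ℕ}

/-- the matrix representation obtained by applying a ring homomorphism entrywise -/
def mapRep (f : A →+* B) (ρ : G →* Matrix (Fin n) (Fin n) A) : G →* Matrix (Fin n) (Fin n) B :=
  (f.mapMatrix (m := Fin n)).toMonoidHom.comp ρ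

theorem mapRep_apply (f : A →+* B) (ρ : G →* Matrix (Fin n) (Fin n) A) (g : G) :
    mapRep f ρ g = f.mapMatrix (ρ g) := rfl

theorem mapMatrix_injective {f : A →+* B} (hf : Function.Injective f) :
    Function.Injective (f.mapMatrix (m := Fin n)) := by
  intro X Y h
  ext i j
  apply hf
  have := congrFun (congrFun h i) j
  simpa using this

theorem mapMatrix_surjective {f : A →+* B} (hf : Function.Surjective f) :
    Function.Surjective (f.mapMatrix (m := Fin n)) := by
  intro Y
  refine ⟨Matrix.of fun i j => Function.surjInv hf (Y i j), ?_⟩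
  ext i j
  rw [RingHom.mapMatrix_apply, Matrix.map_apply, Matrix.of_apply, Function.surjInv_eq hf]

theorem trace_mapMatrix (f : A →+* B) (X : Matrix (Fin n) (Fin n) A) :
    (f.mapMatrix X).trace = f X.trace := by
  rw [RingHom.mapMatrix_apply]
  exact (AddMonoidHom.map_trace f.toAddMonoidHom X).symm

theorem mapMatrix_smul (f : A →+* B) (a : A) (X : Matrix (Fin n) (Fin n) A) :
    f.mapMatrix (a • X) = f a • f.mapMatrix X := by
  ext i j
  simp

/-- Schur relations pass to images under surjective ring homomorphisms -/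
theorem SchurRel.map {ρ : G →* Matrix (Fin n) (Fin n) A} (hρ : SchurRel ρ) (f : A →+* B)
    (hf : Function.Surjective f) : SchurRel (mapRep f ρ) := by
  intro Y
  obtain ⟨X, rfl⟩ := mapMatrix_surjective (n := n) hf Y
  have h := congrArg f.mapMatrix (hρ X)
  rw [mapMatrix_smul, mapMatrix_smul, map_sum, map_one, map_mul, map_natCast, map_natCast] at h
  rw [trace_mapMatrix]
  rw [← h]
  congr 1
  refine Finset.sum_congr rfl fun g _ => ?_
  rw [map_mul, map_mul]
  rfl

/-- Schur relations descend along an injective ring homomorphism and a conjugation -/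
theorem SchurRel.of_conj {σ : G →* Matrix (Fin n) (Fin n) B} (hσ : SchurRel σ)
    (ρ : G →* Matrix (Fin n) (Fin n) A) (f : A →+* B) (hf : Function.Injective f)
    (P Q : Matrix (Fin n) (Fin n) B) (hPQ : P * Q = 1)
    (hconj : ∀ g, f.mapMatrix (ρ g) = P * σ g * Q) : SchurRel ρ := by
  intro X
  apply mapMatrix_injective (n := n) hf
  rw [mapMatrix_smul, mapMatrix_smul, map_sum, map_one, map_mul, map_natCast, map_natCast,
    ← trace_mapMatrix]
  have h1 : ∀ g : G, f.mapMatrix (ρ g * X * ρ g⁻¹) =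
      P * (σ g * (Q * f.mapMatrix X * P) * σ g⁻¹) * Q := by
    intro g
    rw [map_mul, map_mul, hconj, hconj]
    simp only [Matrix.mul_assoc]
  rw [Finset.sum_congr rfl (fun g _ => h1 g), ← Finset.sum_mul, ← Finset.mul_sum,
    ← Matrix.smul_mul, ← Matrix.mul_smul, hσ (Q * f.mapMatrix X * P)]
  have h2 : (Q * f.mapMatrix X * P).trace = (f.mapMatrix X).trace := by
    rw [Matrix.trace_mul_comm, ← Matrix.mul_assoc, hPQ, Matrix.one_mul]
  rw [h2, Matrix.mul_smul, Matrix.smul_mul, Matrix.mul_one, hPQ]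

/-- central scalars pass to images under surjective ring homomorphisms -/
theorem CentralScalar.map {ρ : G →* Matrix (Fin n) (Fin n) A} (hρ : CentralScalar ρ)
    (f : A →+* B) (hf : Function.Surjective f) : CentralScalar (mapRep f ρ) := by
  intro z hz
  obtain ⟨ω, hω⟩ := hρ (fun g => Function.surjInv hf (z g)) (fun g h => by
    show Function.surjInv hf (z (h * g * h⁻¹)) = Function.surjInv hf (z g)
    rw [hz])
  refine ⟨f ω, ?_⟩
  have h := congrArg f.mapMatrix hω
  rw [mapMatrix_smul, map_one, map_sum] at h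
  rw [← h]
  refine Finset.sum_congr rfl fun g _ => ?_
  rw [mapMatrix_smul, Function.surjInv_eq hf]
  rfl

/-- central scalars descend along an injective ring homomorphism and a conjugation -/
theorem CentralScalar.of_conj {σ : G →* Matrix (Fin n) (Fin n) B} (hσ : CentralScalar σ)
    (ρ : G →* Matrix (Fin n) (Fin n) A) (f : A →+* B) (hf : Function.Injective f)
    (P Q : Matrix (Fin n) (Fin n) B) (hPQ : P * Q = 1)
    (hconj : ∀ g, f.mapMatrix (ρ g) = P * σ g * Q) : CentralScalar ρ := by
  classical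
  intro z hz
  obtain ⟨c, hc⟩ := hσ (fun g => f (z g)) (fun g h => by
    show f (z (h * g * h⁻¹)) = f (z g)
    rw [hz])
  have h1 : f.mapMatrix (∑ g : G, z g • ρ g) = c • (1 : Matrix (Fin n) (Fin n) B) := by
    rw [map_sum]
    have h2 : ∀ g : G, f.mapMatrix (z g • ρ g) = P * (f (z g) • σ g) * Q := by
      intro g
      rw [mapMatrix_smul, hconj, Matrix.mul_smul, Matrix.smul_mul]
    rw [Finset.sum_congr rfl (fun g _ => h2 g), ← Finset.sum_mul, ← Finset.mul_sum, hc,
      Matrix.mul_smul, Matrix.smul_mul, Matrix.mul_one, hPQ]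
  rcases Nat.eq_zero_or_pos n with hn | hn
  · subst hn
    exact ⟨0, Subsingleton.elim _ _⟩
  refine ⟨(∑ g : G, z g • ρ g) ⟨0, hn⟩ ⟨0, hn⟩, ?_⟩
  apply mapMatrix_injective (n := n) hf
  rw [h1, mapMatrix_smul, map_one]
  congr 1
  have h3 := congrFun (congrFun h1 ⟨0, hn⟩) ⟨0, hn⟩
  rw [Matrix.smul_apply, Matrix.one_apply_eq, smul_eq_mul, mul_one] at h3
  rw [← h3]
  rfl

end Transfer

end Cfsg.Agent.Lib.Helper80.BC
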