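import Mathlib
import Cfsg.Agent.Lib.Helper77.ModResidue

/-!
# Roots of unity of order prime to `p` modulo a `p`-modular ideal, and their Teichmüller lifts

For a `p`-modular maximal ideal `M` of the algebraic integers, with residue field
`F = ResF M`, reduction is a bijection from the complex roots of unity of order prime to `p` to
the roots of unity of `F` of order prime to `p`.  `teich` is the inverse map (extended by zero).
-/

set_option autoImplicit false

namespace Cfsg.Agent.Lib.Helper80.BC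

open Cfsg Cfsg.Agent.Lib.Helper16 Cfsg.Agent.Lib.Helper77.Modular

variable {M : Ideal AlgInt} [hMp : M.IsPrime] {p : ℕ}

/-- complex roots of unity lie in the local ring -/
theorem memLocalRing_of_pow_eq_one {ζ : ℂ} {m : ℕ} (hm : 0 < m) (h : ζ ^ m = 1) :
    MemLocalRing M ζ := by
  apply memLocalRing_of_isIntegral hMp.ne_top
  refine ⟨Polynomial.X ^ m - 1, Polynomial.monic_X_pow_sub_C 1 hm.ne', ?_⟩
  simp [h]

/-- `1 - ω` is a unit of the local ring for a nontrivial root of unity `ω` of order prime to `p` -/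
theorem not_memLocalIdeal_one_sub (hM : IsPModular p M) {ω : ℂ} {m : ℕ} (hm : 0 < m)
    (hpm : ¬ p ∣ m) (h : ω ^ m = 1) (hω : ω ≠ 1) : ¬ MemLocalIdeal M (1 - ω) := by
  intro hmem
  have hωR : MemLocalRing M ω := memLocalRing_of_pow_eq_one hm h
  -- the geometric sum vanishes
  have hgeom : ∑ k ∈ Finset.range m, ω ^ k = 0 := by
    have h1 : (∑ k ∈ Finset.range m, ω ^ k) * (ω - 1) = 0 := by
      rw [geom_sum_mul, h, sub_self]
    rcases mul_eq_zero.mp h1 with h2 | h2
    · exact h2
    · exact absurd (sub_eq_zero.mp h2) hω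
  -- hence `m = (1 - ω) * c`
  have hm' : (m : ℂ) = (1 - ω) * ∑ k ∈ Finset.range m, ∑ j ∈ Finset.range k, ω ^ j := by
    have h3 : (m : ℂ) = ∑ k ∈ Finset.range m, (1 - ω ^ k) := by
      rw [Finset.sum_sub_distrib, hgeom, sub_zero, Finset.sum_const, Finset.card_range,
        nsmul_eq_mul, mul_one]
    rw [h3, Finset.mul_sum]
    apply Finset.sum_congr rfl
    intro k _
    have := geom_sum_mul ω k
    linear_combination this
  have hc : MemLocalRing M (∑ k ∈ Finset.range m, ∑ j ∈ Finset.range k, ω ^ j) := by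
    apply memLocalRing_sum
    intro k _
    apply memLocalRing_sum
    intro j _
    exact memLocalRing_pow hωR j
  have hmI : MemLocalIdeal M (m : ℂ) := by
    rw [hm']
    exact memLocalIdeal_mul_right hmem hc
  exact hpm ((memLocalIdeal_natCast_iff hM m).mp hmI)

/-- two roots of unity of order prime to `p` that are congruent modulo the local ideal are equal -/
theorem eq_of_memLocalIdeal_sub (hM : IsPModular p M) {ζ ζ' : ℂ} {m : ℕ} (hm : 0 < m)
    (hpm : ¬ p ∣ m) (h : ζ ^ m = 1) (h' : ζ' ^ m = 1) (hmem : MemLocalIdeal M (ζ - ζ')) :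
    ζ = ζ' := by
  by_contra hne
  have hζ0 : ζ ≠ 0 := by
    intro h0
    rw [h0, zero_pow hm.ne'] at h
    exact zero_ne_one h
  set ω : ℂ := ζ' / ζ with hω
  have hω1 : ω ^ m = 1 := by rw [hω, div_pow, h, h', div_one]
  have hωne : ω ≠ 1 := by
    intro h1
    rw [hω, div_eq_one_iff_eq hζ0] at h1
    exact hne h1.symm
  apply not_memLocalIdeal_one_sub hM hm hpm hω1 hωne
  have hinv : MemLocalRing M ζ⁻¹ := by
    have : ζ⁻¹ = ζ ^ (m - 1) := by
      have h2 : ζ ^ (m - 1) * ζ = 1 := by
        rw [← pow_succ, Nat.sub_add_cancel hm, h]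
      exact (eq_inv_of_mul_eq_one_left h2).symm
    rw [this]
    exact memLocalRing_pow (memLocalRing_of_pow_eq_one hm h) _
  have : 1 - ω = ζ⁻¹ * (ζ - ζ') := by
    rw [hω]
    field_simp
  rw [this]
  exact memLocalIdeal_mul_left hinv hmem

variable (M)

/-- the reduction map from the local ring to the residue field -/
noncomputable abbrev red : localSubring M →+* ResF M := Ideal.Quotient.mk (localIdeal M)

/-- reduction of a complex number known to lie in the local ring (junk value `0` otherwise) -/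
noncomputable def redC (z : ℂ) : ResF M := by
  classical
  exact if h : z ∈ localSubring M then red M ⟨z, h⟩ else 0

variable {M}

theorem redC_of_mem {z : ℂ} (h : z ∈ localSubring M) : redC M z = red M ⟨z, h⟩ := by
  unfold redC
  rw [dif_pos h]

theorem redC_coe (z : localSubring M) : redC M (z : ℂ) = red M z :=
  redC_of_mem z.2

theorem redC_eq_iff {z w : ℂ} (hz : z ∈ localSubring M) (hw : w ∈ localSubring M) :
    redC M z = redC M w ↔ MemLocalIdeal M (z - w) := by
  rw [redC_of_mem hz, redC_of_mem hw, Ideal.Quotient.eq, mem_localIdeal]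
  rfl

theorem redC_mul {z w : ℂ} (hz : z ∈ localSubring M) (hw : w ∈ localSubring M) :
    redC M (z * w) = redC M z * redC M w := by
  rw [redC_of_mem hz, redC_of_mem hw, redC_of_mem ((localSubring M).mul_mem hz hw), ← map_mul]
  rfl

theorem redC_add {z w : ℂ} (hz : z ∈ localSubring M) (hw : w ∈ localSubring M) :
    redC M (z + w) = redC M z + redC M w := by
  rw [redC_of_mem hz, redC_of_mem hw, redC_of_mem ((localSubring M).add_mem hz hw), ← map_add]
  rfl

theorem redC_one : redC M (1 : ℂ) = 1 := by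
  rw [redC_of_mem (localSubring M).one_mem]
  exact map_one _

theorem redC_pow {z : ℂ} (hz : z ∈ localSubring M) (n : ℕ) : redC M (z ^ n) = redC M z ^ n := by
  rw [redC_of_mem hz, redC_of_mem ((localSubring M).pow_mem hz n), ← map_pow]
  rfl

/-- the residue field has characteristic `p` -/
theorem resF_natCast_p (hM : IsPModular p M) : (p : ResF M) = 0 := by
  have h1 : (p : ResF M) = red M (p : localSubring M) := (map_natCast _ p).symm
  rw [h1, Ideal.Quotient.eq_zero_iff_mem, mem_localIdeal]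
  exact memLocalIdeal_p hM

theorem resF_charP (hM : IsPModular p M) : CharP (ResF M) p := by
  exact (CharP.charP_iff_prime_eq_zero (isPModular_prime hM)).mpr (resF_natCast_p hM)

theorem mem_localSubring_of_pow_eq_one {ζ : ℂ} {m : ℕ} (hm : 0 < m) (h : ζ ^ m = 1) :
    ζ ∈ localSubring M :=
  memLocalRing_of_pow_eq_one hm h

/-- reduction is injective on roots of unity of order prime to `p` -/
theorem redC_injOn_roots (hM : IsPModular p M) {m : ℕ} (hm : 0 < m) (hpm : ¬ p ∣ m)
    {ζ ζ' : ℂ} (h : ζ ^ m = 1) (h' : ζ' ^ m = 1) (hred : redC M ζ = redC M ζ') : ζ = ζ' := by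
  apply eq_of_memLocalIdeal_sub hM hm hpm h h'
  exact (redC_eq_iff (mem_localSubring_of_pow_eq_one hm h)
    (mem_localSubring_of_pow_eq_one hm h')).mp hred

/-- every root of unity of order prime to `p` in the residue field lifts -/
theorem exists_root_lift (hM : IsPModular p M) {m : ℕ} (hm : 0 < m) (hpm : ¬ p ∣ m)
    {x : ResF M} (hx : x ^ m = 1) : ∃ ζ : ℂ, ζ ^ m = 1 ∧ redC M ζ = x := by
  classical
  set S : Finset ℂ := Polynomial.nthRootsFinset m (1 : ℂ) with hS
  set T : Finset (ResF M) := Polynomial.nthRootsFinset m (1 : ResF M) with hT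
  have hScard : S.card = m :=
    (Complex.isPrimitiveRoot_exp m hm.ne').card_nthRootsFinset
  have hTcard : T.card ≤ m := by
    rw [hT, Polynomial.nthRootsFinset]
    exact le_trans (Multiset.toFinset_card_le _) (Polynomial.card_nthRoots m 1)
  have hmemS : ∀ ζ : ℂ, ζ ∈ S ↔ ζ ^ m = 1 := fun ζ => Polynomial.mem_nthRootsFinset hm 1
  have hmemT : ∀ y : ResF M, y ∈ T ↔ y ^ m = 1 := fun y => Polynomial.mem_nthRootsFinset hm 1
  have hsub : S.image (redC M) ⊆ T := by
    intro y hy
    obtain ⟨ζ, hζ, rfl⟩ := Finset.mem_image.mp hy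
    rw [hmemT, ← redC_pow (mem_localSubring_of_pow_eq_one hm ((hmemS ζ).mp hζ)),
      (hmemS ζ).mp hζ, redC_one]
  have hinj : Set.InjOn (redC M) (S : Set ℂ) := by
    intro ζ hζ ζ' hζ' hred
    exact redC_injOn_roots hM hm hpm ((hmemS ζ).mp hζ) ((hmemS ζ').mp hζ') hred
  have himg : S.image (redC M) = T := by
    apply Finset.eq_of_subset_of_card_le hsub
    rw [Finset.card_image_of_injOn hinj, hScard]
    exact hTcard
  have hxT : x ∈ S.image (redC M) := by
    rw [himg, hmemT]
    exact hx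
  obtain ⟨ζ, hζ, hζx⟩ := Finset.mem_image.mp hxT
  exact ⟨ζ, (hmemS ζ).mp hζ, hζx⟩

variable (M p)

/-- `ζ` is a Teichmüller lift of `x`: a complex root of unity of order prime to `p` reducing to
`x` -/
def IsTeichLift (x : ResF M) (ζ : ℂ) : Prop :=
  ∃ m : ℕ, 0 < m ∧ ¬ p ∣ m ∧ ζ ^ m = 1 ∧ redC M ζ = x

/-- the Teichmüller lift of a root of unity of order prime to `p` (zero for other elements) -/
noncomputable def teich (x : ResF M) : ℂ := by
  classical
  exact if h : ∃ ζ : ℂ, IsTeichLift M p x ζ then h.choose else 0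

variable {M p}

theorem isTeichLift_unique (hM : IsPModular p M) {x : ResF M} {ζ ζ' : ℂ}
    (h : IsTeichLift M p x ζ) (h' : IsTeichLift M p x ζ') : ζ = ζ' := by
  obtain ⟨m, hm, hpm, hζ, hx⟩ := h
  obtain ⟨m', hm', hpm', hζ', hx'⟩ := h'
  have hp : p.Prime := isPModular_prime hM
  have hmm : ¬ p ∣ m * m' := fun hd => (hp.dvd_mul.mp hd).elim hpm hpm'
  apply redC_injOn_roots hM (Nat.mul_pos hm hm') hmm
  · rw [pow_mul, hζ, one_pow]
  · rw [mul_comm, pow_mul, hζ', one_pow]
  · rw [hx, hx']

theorem teich_eq_of_isTeichLift (hM : IsPModular p M) {x : ResF M} {ζ : ℂ}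
    (h : IsTeichLift M p x ζ) : teich M p x = ζ := by
  have hex : ∃ ζ : ℂ, IsTeichLift M p x ζ := ⟨ζ, h⟩
  unfold teich
  rw [dif_pos hex]
  exact isTeichLift_unique hM hex.choose_spec h

theorem isTeichLift_teich (hM : IsPModular p M) {m : ℕ} (hm : 0 < m) (hpm : ¬ p ∣ m)
    {x : ResF M} (hx : x ^ m = 1) : IsTeichLift M p x (teich M p x) := by
  obtain ⟨ζ, hζ, hζx⟩ := exists_root_lift hM hm hpm hx
  have h : IsTeichLift M p x ζ := ⟨m, hm, hpm, hζ, hζx⟩
  rw [teich_eq_of_isTeichLift hM h]
  exact h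

/-- the lift of the reduction of a root of unity of order prime to `p` is that root of unity -/
theorem teich_redC (hM : IsPModular p M) {m : ℕ} (hm : 0 < m) (hpm : ¬ p ∣ m) {ζ : ℂ}
    (hζ : ζ ^ m = 1) : teich M p (redC M ζ) = ζ :=
  teich_eq_of_isTeichLift hM ⟨m, hm, hpm, hζ, rfl⟩

theorem teich_pow_eq_one (hM : IsPModular p M) {m : ℕ} (hm : 0 < m) (hpm : ¬ p ∣ m)
    {x : ResF M} (hx : x ^ m = 1) : teich M p x ^ m = 1 := by
  obtain ⟨ζ, hζ, hζx⟩ := exists_root_lift hM hm hpm hx
  rw [teich_eq_of_isTeichLift hM ⟨m, hm, hpm, hζ, hζx⟩]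
  exact hζ

theorem redC_teich (hM : IsPModular p M) {m : ℕ} (hm : 0 < m) (hpm : ¬ p ∣ m)
    {x : ResF M} (hx : x ^ m = 1) : redC M (teich M p x) = x := by
  obtain ⟨_, _, _, _, h⟩ := isTeichLift_teich hM hm hpm hx
  exact h

theorem teich_one (hM : IsPModular p M) : teich M p (1 : ResF M) = 1 := by
  have hp1 : ¬ p ∣ 1 := fun h => (isPModular_prime hM).one_lt.ne' (Nat.dvd_one.mp h)
  have h := teich_redC hM (m := 1) one_pos hp1 (ζ := 1) (one_pow 1)
  rwa [redC_one] at h

end Cfsg.Agent.Lib.Helper80.BC
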