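import Cfsg.Agent.Lib.Helper80.BC.IntegralRep
import Cfsg.Agent.Lib.Helper80.BC.SchurRel
import Cfsg.Agent.Lib.Helper80.BC.Teich

/-!
# Reduction modulo `M` of irreducible characters of `p'`-groups

For a `p`-modular maximal ideal `M` of the algebraic integers, `F = ResF M`, a finite group `H`
of order prime to `p` and `ψ ∈ Irr(H)`: there is a matrix representation `τ : H →* M_n(F)`
(the reduction of an integral form of `ψ`) which satisfies the Schur relations (hence is
irreducible) and on which every class function `z : H → localSubring M` acts by the reduction of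
`ω_ψ(z) = ∑ z(g) ψ(g) / ψ(1)`.
-/

set_option autoImplicit false
set_option linter.unusedSectionVars false

namespace Cfsg.Agent.Lib.Helper80.BC

open Cfsg Cfsg.Agent.Lib.Helper16 Cfsg.Agent.Lib.Helper77.Modular

universe u

section OverK

variable {K : Type*} [Field K] {G : Type*} [Group G] [Fintype G] {m : ℕ} {d : Fin m → ℕ}
  (π : MonoidAlgebra K G →ₐ[K] (Π i : Fin m, Matrix (Fin (d i)) (Fin (d i)) K))

/-- Schur relations for a Wedderburn component -/
theorem schurRel_compRep (hπ : Function.Surjective π) (i : Fin m) : SchurRel (compRep π i) := by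
  intro X
  obtain ⟨c, hc⟩ := intertwiner_eq_scalar π hπ i (avgMat π i i X) (avgMat_intertwines π i i X)
  have htr := trace_avgMat π i X
  rw [hc, Matrix.trace_smul, Matrix.trace_one, Fintype.card_fin, smul_eq_mul] at htr
  have h1 : ∑ g : G, compRep π i g * X * compRep π i g⁻¹ = avgMat π i i X := rfl
  rw [h1, hc, smul_smul, mul_comm, htr]

/-- class functions act by scalars on a Wedderburn component -/
theorem centralScalar_compRep (hπ : Function.Surjective π) (i : Fin m) :
    CentralScalar (compRep π i) := by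
  intro z hz
  apply intertwiner_eq_scalar π hπ i
  intro h
  rw [Finset.mul_sum, Finset.sum_mul]
  refine Fintype.sum_equiv (MulAut.conj h).toEquiv _ _ ?_
  intro g
  show compRep π i h * (z g • compRep π i g) =
    z (h * g * h⁻¹) • compRep π i (h * g * h⁻¹) * compRep π i h
  rw [hz g h, Matrix.mul_smul, Matrix.smul_mul, ← map_mul, ← map_mul]
  congr 2
  rw [inv_mul_cancel_right]

end OverK

variable {M : Ideal AlgInt} [hMp : M.IsPrime] {p : ℕ}

/-- **Reduction modulo `M` of an irreducible character of a `p'`-group.** -/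
theorem exists_modular_rep (hM : IsPModular p M) {H : Type u} [Group H] [Fintype H]
    (hp : ¬ p ∣ Fintype.card H) {ψ : H → ℂ} (hψ : IsIrrCharacter H ψ) :
    ∃ (n : ℕ) (τ : H →* Matrix (Fin n) (Fin n) (ResF M)), 0 < n ∧ SchurRel τ ∧
      (matRep τ).IsIrreducible ∧
      ∀ z : H → localSubring M, (∀ g h : H, z (h * g * h⁻¹) = z g) →
        ∃ ω : localSubring M, (ω : ℂ) * ψ 1 = ∑ g : H, (z g : ℂ) * ψ g ∧
          ∑ g : H, algebraMap (localSubring M) (ResF M) (z g) • τ g =
            algebraMap (localSubring M) (ResF M) ω • (1 : Matrix (Fin n) (Fin n) (ResF M)) := by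
  classical
  have hprime : p.Prime := isPModular_prime hM
  have : Fact p.Prime := ⟨hprime⟩
  have : CharP (ResF M) p := resF_charP hM
  obtain ⟨m, d, hd, ⟨π⟩⟩ := exists_wedderburn_iso QBar H
  obtain ⟨i, hi⟩ := exists_compChar_eq (algebraMap QBar ℂ) (π : MonoidAlgebra QBar H →ₐ[QBar]
    (Π i : Fin m, Matrix (Fin (d i)) (Fin (d i)) QBar))
    π.bijective (fun i => NeZero.ne (d i)) hψ
  set σ := compRep (π : MonoidAlgebra QBar H →ₐ[QBar]
    (Π i : Fin m, Matrix (Fin (d i)) (Fin (d i)) QBar)) i with hσ
  obtain ⟨ρ, P, Q, hPQ, hQP, hρ⟩ := exists_integral_conj (R := localSubring M) (K := QBar) σ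
  have hinj : Function.Injective (algebraMap (localSubring M) QBar) :=
    algebraMap_localSubring_qbar_injective M
  have hsurj : Function.Surjective (algebraMap (localSubring M) (ResF M)) :=
    Ideal.Quotient.mk_surjective
  have hconj : ∀ g, (algebraMap (localSubring M) QBar).mapMatrix (ρ g) = P * σ g * Q := hρ
  have hS1 : SchurRel ρ := (schurRel_compRep _ π.surjective i).of_conj ρ _ hinj P Q hPQ hconj
  have hC1 : CentralScalar ρ :=
    (centralScalar_compRep _ π.surjective i).of_conj ρ _ hinj P Q hPQ hconj
  have hn : 0 < d i := Nat.pos_of_ne_zero (NeZero.ne (d i))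
  have hG : (Fintype.card H : ResF M) ≠ 0 := by
    intro h
    exact hp ((CharP.cast_eq_zero_iff (ResF M) p _).mp h)
  have hS2 : SchurRel (mapRep (algebraMap (localSubring M) (ResF M)) ρ) := hS1.map _ hsurj
  refine ⟨d i, mapRep (algebraMap (localSubring M) (ResF M)) ρ, hn, hS2,
    isIrreducible_of_schurRel hn _ hS2 hG, ?_⟩
  intro z hz
  obtain ⟨ω, hω⟩ := hC1 z hz
  refine ⟨ω, ?_, ?_⟩
  · -- traces
    have htr : ∀ g, (((ρ g).trace : localSubring M) : ℂ) = ψ g := by
      intro g
      have h1 : algebraMap (localSubring M) QBar (ρ g).trace = (σ g).trace := by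
        rw [← trace_mapMatrix, hconj, Matrix.trace_mul_comm, ← Matrix.mul_assoc, hQP,
          Matrix.one_mul]
      rw [hi]
      show _ = algebraMap QBar ℂ (σ g).trace
      rw [← h1]
      rfl
    have h2 := congrArg Matrix.trace hω
    rw [Matrix.trace_sum, Matrix.trace_smul, Matrix.trace_one, Fintype.card_fin] at h2
    have h3 := congrArg (fun t : localSubring M => (t : ℂ)) h2
    simp only [Matrix.trace_smul, smul_eq_mul] at h3
    have h4 : ψ 1 = (d i : ℂ) := by
      rw [hi]
      exact compChar_one _ _ i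
    rw [h4]
    have h5 : ((∑ g : H, z g * (ρ g).trace : localSubring M) : ℂ) =
        ∑ g : H, (z g : ℂ) * ψ g := by
      rw [← Subring.subtype_apply, map_sum]
      refine Finset.sum_congr rfl fun g _ => ?_
      rw [Subring.subtype_apply, Subring.coe_mul, htr]
    rw [← h5, h3]
    push_cast
    rfl
  · have h := congrArg (algebraMap (localSubring M) (ResF M)).mapMatrix hω
    rw [mapMatrix_smul, map_one, map_sum] at h
    rw [← h]
    refine Finset.sum_congr rfl fun g _ => ?_
    rw [mapMatrix_smul]
    rfl

end Cfsg.Agent.Lib.Helper80.BC
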